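import Mathlib
import Cfsg.Agent.Helper57.J2Data
import Cfsg.Agent.S0423
import Cfsg.Agent.Helper28.TCH
import Cfsg.Agent.Helper28.SZQ2.Cert
import Cfsg.Agent.Helper28.J2.Abs

/-!
# The group presented on `a, …, e` is the Hall–Janko group on 100 points (helper28)

Five involutions of `Fin 100` satisfy the relators of the presentation `SZ.Q2` (a sub-diagram of the
presentation of Suz) and generate a group containing the two generators `j2G0` of the group
`Cfsg.Agent.S0423.K0` of order 604800; as the presented group has order at most `280 * 2160 = 604800`,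
it is isomorphic to `K0`.
-/

set_option autoImplicit false

namespace Cfsg.Agent.Helper28.J2

open Cfsg.Agent.Helper28

/-- the five involutions, packed (seven bits per entry) -/
def pN : ℕ :=
  0x355d517b4e280c297d88ac4a69099d561dd474d7c168402c02cdca84a2ba6483c19108069585e8c7194b04d6cb99b0922b5986b184c9dd2d9ef46990efc7b6258d028c11e2db166c74a3a450dc2762a3c3efa4c476cc001351dd97569c1495c8e345a2809a63692bb458783146722e4ac566c192d061322439888c2a980944008509701eb9236c5cfbee8218bd501d2b4dc656393851fa78e228c10c7ccaafd7b52af82a15a75c3c03346a94b743b6c73573faa9e8bb514a5be5f02fd4996aec36d07153b329e295ab1ec4a0aa756c1622c9b8e5d26573dab166c9a25af863c66f0a45bbce181638549201c5cea31a68c943c9111826843901e7cd8316184852228404180808078ba428a11ad5c8f753d884be9bdab3a0df67494c358ee4e1b77a2be995e8aa5b12a6394c9cb770d92ab9ee9330ad89fcb69026e0b2c5a9e04250913e90e9c26207173050a96362d0031e6468c242911a0e10286208c080c734db945783cc0af67a45f58ad4771489fb20f15c6d28a480cb29441c84640745ad18a6ff038572da9c00c9197ae345466e494884e98f58637e120a0945b4c268cbc60faac91eaa890270d7413ab44a8bb1ed849c04133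

/-- the five involutions, as tables -/
def pT (k : Fin 5) (x : Fin 100) : Fin 100 :=
  Fin.ofNat 100 (Cfsg.Agent.Helper57.j2Ent pN (100 * k.val + x.val))

theorem pT_invol : ∀ (k : Fin 5) (x : Fin 100), pT k (pT k x) = x := by decide +kernel

/-- the five involutions -/
def pP (k : Fin 5) : Equiv.Perm (Fin 100) := ⟨pT k, pT k, pT_invol k, pT_invol k⟩

theorem pP_apply (k : Fin 5) (x : Fin 100) : pP k x = pT k x := rfl

/-- the images of the generators -/
def vJ : Cfsg.Agent.Helper28.SZ.Q2.Gen → Equiv.Perm (Fin 100)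
  | .a => pP 0
  | .b => pP 1
  | .c => pP 2
  | .d => pP 3
  | .e => pP 4

theorem vJ_sq (x : Cfsg.Agent.Helper28.SZ.Q2.Gen) : vJ x * vJ x = 1 := by
  cases x <;> exact Equiv.ext (fun y => pT_invol _ y)

/-- the image of a generator column -/
def vN (k : ℕ) : Equiv.Perm (Fin 100) := vJ (Cfsg.Agent.Helper28.SZQ2.gen k)

/-- the action of a word -/
def wAct : List ℕ → Fin 100 → Fin 100
  | [], x => x
  | k :: l, x => vN k (wAct l x)

theorem prod_apply (l : List ℕ) (x : Fin 100) : ((l.map vN).prod) x = wAct l x := by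
  induction l with
  | nil => rfl
  | cons k l ih =>
    rw [List.map_cons, List.prod_cons, Equiv.Perm.mul_apply, ih]
    rfl

theorem rel_chk : ∀ l ∈ Cfsg.Agent.Helper28.SZQ2.pairs.map (fun p => pairWord p.1 p.2.1 p.2.2) ++
    Cfsg.Agent.Helper28.SZQ2.extraL, ∀ x : Fin 100, wAct l x = x := by decide +kernel

/-- the homomorphism onto the permutation group -/
noncomputable def psi : QJ →* Equiv.Perm (Fin 100) :=
  PresentedGroup.toGroup (Cfsg.Agent.Helper28.SZQ2.cert.lift_rel vJ vJ_sq (by
    intro l hl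
    apply Equiv.ext
    intro x
    have h := prod_apply l x
    rw [Equiv.Perm.one_apply]
    exact h.trans (rel_chk l hl x)))

theorem psi_of (x : Cfsg.Agent.Helper28.SZ.Q2.Gen) : psi (PresentedGroup.of x) = vJ x :=
  PresentedGroup.toGroup.of _

/-- the two generators of `K0` as words -/
def gW : Fin 2 → List ℕ
  | 0 => [4, 0, 1, 2, 3, 2, 3, 1, 2, 3, 4, 2, 3, 1, 2, 1, 0, 1]
  | 1 => [2, 3, 0, 1, 2, 3, 4, 3, 2, 3, 0, 1, 0, 1, 2, 3, 4, 2, 3, 1, 2, 3, 2, 1, 0, 1]

theorem gW_chk : ∀ (j : Fin 2) (x : Fin 100), wAct (gW j) x = Cfsg.Agent.Helper57.j2GT0 j x := by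
  decide +kernel

theorem gen_mem (j : Fin 2) : Cfsg.Agent.Helper57.j2G0 j ∈ psi.range := by
  have h : Cfsg.Agent.Helper57.j2G0 j = ((gW j).map vN).prod := by
    apply Equiv.ext
    intro x
    rw [prod_apply, Cfsg.Agent.Helper57.j2_g0_apply]
    exact (gW_chk j x).symm
  rw [h]
  apply Subgroup.list_prod_mem
  intro y hy
  obtain ⟨k, _, rfl⟩ := List.mem_map.mp hy
  exact ⟨PresentedGroup.of (Cfsg.Agent.Helper28.SZQ2.gen k), psi_of _⟩

theorem K0_le : Cfsg.Agent.S0423.K0 ≤ psi.range := by
  unfold Cfsg.Agent.S0423.K0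
  rw [Subgroup.closure_le]
  rintro _ ⟨j, rfl⟩
  exact gen_mem j

theorem finite_QJ : Finite QJ := AbsJ.card_le.1

theorem card_QJ_le : Nat.card QJ ≤ 604800 := le_trans AbsJ.card_le.2 (by norm_num)

theorem psi_range : psi.range = Cfsg.Agent.S0423.K0 := by
  have := finite_QJ
  have h1 : Nat.card psi.range ≤ Nat.card QJ :=
    Nat.card_le_card_of_surjective psi.rangeRestrict psi.rangeRestrict_surjective
  have h2 : Nat.card psi.range ≤ Nat.card Cfsg.Agent.S0423.K0 := by
    rw [Cfsg.Agent.S0423.step0.1]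
    exact le_trans h1 card_QJ_le
  exact (Subgroup.eq_of_le_of_card_ge K0_le h2).symm

theorem card_QJ : Nat.card QJ = 604800 := by
  have := finite_QJ
  apply le_antisymm card_QJ_le
  have h1 : Nat.card psi.range ≤ Nat.card QJ :=
    Nat.card_le_card_of_surjective psi.rangeRestrict psi.rangeRestrict_surjective
  rw [psi_range, Cfsg.Agent.S0423.step0.1] at h1
  exact h1

theorem psi_injective : Function.Injective psi := by
  have := finite_QJ
  have hb : Function.Bijective psi.rangeRestrict := by
    apply psi.rangeRestrict_surjective.bijective_of_nat_card_le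
    rw [psi_range, Cfsg.Agent.S0423.step0.1]
    exact card_QJ_le
  intro x y hxy
  apply hb.1
  exact Subtype.ext hxy

/-- the presented group is the Hall–Janko group on 100 points -/
noncomputable def isoK0 : QJ ≃* Cfsg.Agent.S0423.K0 :=
  (MonoidHom.ofInjective psi_injective).trans (MulEquiv.subgroupCongr psi_range)

end Cfsg.Agent.Helper28.J2
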